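import Groth.Agent.CAlgT1.SkFlat
import Groth.Agent.SyntLCI.Field
import Groth.Agent.FFDesc.Basic
import Groth.Agent.FpqcDescent.Ideals
import Groth.Agent.SpecPt.Generalize
import Groth.Agent.SerreLift.Basic
import Groth.Agent.CAlgReg.Basic
import Groth.Agent.FlatLocalDepth.Comp
import Groth.Prelude.Def_RegImm
import Mathlib.AlgebraicGeometry.Morphisms.UniversallyOpen
import Mathlib.AlgebraicGeometry.Morphisms.FinitePresentation

/-!
# Syntomic locality of `(S_k)` and Cohen–Macaulay
-/

set_option autoImplicit false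
set_option backward.isDefEq.respectTransparency false
set_option backward.isDefEq.respectTransparency.types false

universe u

open CategoryTheory CategoryTheory.Limits AlgebraicGeometry IsLocalRing

namespace Groth.Agent.SyntLocal

/-- the `(S_k)` inequality at the closed point -/
def SkTop (k : ℕ) (R : Type u) [CommRing R] [IsLocalRing R] : Prop :=
  min (k : WithBot ℕ∞) (ringKrullDim R) ≤ ((LocCoh.depth R R : ℕ∞) : WithBot ℕ∞)

theorem skTop_congr {k : ℕ} {R S : Type u} [CommRing R] [IsLocalRing R] [CommRing S] [IsLocalRing S]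
    [IsNoetherianRing S] (e : R ≃+* S) : SkTop k R ↔ SkTop k S := by
  rw [SkTop, SkTop, ringKrullDim_eq_of_ringEquiv e, SerreLift.depth_eq_of_ringEquiv e]

theorem skTop_of_hasSk {k : ℕ} {R : Type u} [CommRing R] [IsLocalRing R] [IsNoetherianRing R]
    (h : LocCoh.HasSk k R R) : SkTop k R :=
  (skTop_congr (IsLocalization.atUnits R (maximalIdeal R).primeCompl (S := Localization.AtPrime (maximalIdeal R))
    (fun x hx => IsLocalRing.notMem_maximalIdeal.1 hx)).symm.toRingEquiv).1 ((CAlgT1.hasSk_self_iff k).1 h (maximalIdeal R))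

theorem hasSk_localization {k : ℕ} {R : Type u} [CommRing R] [IsNoetherianRing R] (h : LocCoh.HasSk k R R)
    (p : Ideal R) [p.IsPrime] (L : Type u) [CommRing L] [Algebra R L] [IsLocalization.AtPrime L p] :
    LocCoh.HasSk k L L := by
  haveI : IsNoetherianRing L := IsLocalization.isNoetherianRing p.primeCompl L inferInstance
  rw [CAlgT1.hasSk_self_iff]
  intro Q _
  haveI : (Q.comap (algebraMap R L)).IsPrime := Ideal.comap_isPrime _ _
  haveI := IsLocalization.isLocalization_isLocalization_atPrime_isLocalization p.primeCompl (Localization.AtPrime Q) Q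
  haveI : IsNoetherianRing (Localization.AtPrime Q) := inferInstance
  exact (skTop_congr (IsLocalization.algEquiv (Q.comap (algebraMap R L)).primeCompl
    (Localization.AtPrime (Q.comap (algebraMap R L))) (Localization.AtPrime Q)).toRingEquiv).1
      ((CAlgT1.hasSk_self_iff k).1 h _)

theorem hasSk_section {k : ℕ} {S : Scheme.{u}} [IsLocallyNoetherian S]
    (h : ∀ s : S, LocCoh.HasSk k (S.presheaf.stalk s) (S.presheaf.stalk s)) (V : S.affineOpens) :
    LocCoh.HasSk k Γ(S, V.1) Γ(S, V.1) := by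
  rw [CAlgT1.hasSk_self_iff]
  intro p hp
  have hm : V.2.fromSpec ⟨p, hp⟩ ∈ V.1 := by
    rw [← SetLike.mem_coe, ← V.2.range_fromSpec]
    exact ⟨_, rfl⟩
  letI : Algebra Γ(S, V.1) (S.presheaf.stalk (V.2.fromSpec ⟨p, hp⟩)) :=
    TopCat.Presheaf.algebra_section_stalk S.presheaf ⟨V.2.fromSpec ⟨p, hp⟩, hm⟩
  haveI : IsLocalization.AtPrime (S.presheaf.stalk (V.2.fromSpec ⟨p, hp⟩)) p :=
    V.2.isLocalization_stalk' ⟨p, hp⟩ hm
  exact (skTop_congr (IsLocalization.algEquiv p.primeCompl (Localization.AtPrime p)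
    (S.presheaf.stalk (V.2.fromSpec ⟨p, hp⟩))).toRingEquiv).2 (skTop_of_hasSk (h _))

theorem hasSk_fibre {R A : Type u} [CommRing R] [CommRing A] [Algebra R A] (hs : Synt.IsSyntomic R A) (k : ℕ)
    (p : Ideal R) [p.IsPrime] : LocCoh.HasSk k (p.Fiber A) (p.Fiber A) := by
  haveI := SyntLCI.isCohenMacaulayRing_of_isLCIOver (hs.2.2 ⟨p, ‹_›⟩)
  rw [CAlgT1.hasSk_self_iff]
  intro q _
  haveI := LocCoh.IsCohenMacaulayRing.isCohenMacaulayLocalRing_localization (R := p.Fiber A) q
  refine (min_le_right _ _).trans ?_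
  rw [Depth.isCohenMacaulayLocalRing_iff.1 this]

theorem isCohenMacaulay_iff_hasSk (R : Type u) [CommRing R] [IsLocalRing R] [IsNoetherianRing R] :
    LocCoh.IsCohenMacaulayLocalRing R ↔ ∀ k, LocCoh.HasSk k R R := by
  constructor
  · intro h k
    rw [CAlgT1.hasSk_self_iff]
    intro p _
    haveI := Depth.isCohenMacaulayLocalRing_atPrime p
    refine (min_le_right _ _).trans ?_
    rw [Depth.isCohenMacaulayLocalRing_iff.1 this]
  · intro h
    rw [Depth.isCohenMacaulayLocalRing_iff]
    obtain ⟨n, hn⟩ := CAlgReg.exists_dim (R := R)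
    refine le_antisymm ?_ Depth.depth_le_ringKrullDim
    have h' := skTop_of_hasSk (h n)
    rw [SkTop, hn, min_self, ← hn] at h'
    exact h'

variable {X S : Scheme.{u}} (f : X ⟶ S)

theorem locallyOfFinitePresentation (h : Synt.IsSyntomicMor f) : LocallyOfFinitePresentation f := by
  rw [HasRingHomProperty.iff_exists_appLE (P := @LocallyOfFinitePresentation)
    (RingHom.finitePresentation_stableUnderComposition.stableUnderCompositionWithLocalizationAway
      RingHom.finitePresentation_holdsForLocalizationAway).left]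
  intro x
  obtain ⟨U, V, e, hx, -, hfp, -⟩ := h x
  exact ⟨V, U, hx, e, hfp⟩

theorem flat (h : Synt.IsSyntomicMor f) : Flat f := by
  rw [HasRingHomProperty.iff_exists_appLE (P := @Flat)
    (RingHom.Flat.stableUnderComposition.stableUnderCompositionWithLocalizationAway
      RingHom.Flat.holdsForLocalizationAway).left]
  intro x
  obtain ⟨U, V, e, hx, hfl, -⟩ := h x
  exact ⟨V, U, hx, e, hfl⟩

theorem hasSk_of_base (h : Synt.IsSyntomicMor f) (k : ℕ) [IsLocallyNoetherian S]
    (hS : ∀ s : S, LocCoh.HasSk k (S.presheaf.stalk s) (S.presheaf.stalk s)) :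
    IsLocallyNoetherian X ∧ ∀ x : X, LocCoh.HasSk k (X.presheaf.stalk x) (X.presheaf.stalk x) := by
  haveI := locallyOfFinitePresentation f h
  haveI hX : IsLocallyNoetherian X := LocallyOfFiniteType.isLocallyNoetherian f
  refine ⟨hX, fun x => ?_⟩
  obtain ⟨U, V, e, hx, hs⟩ := h x
  letI := (f.appLE V.1 U.1 e).hom.toAlgebra
  haveI : IsNoetherianRing Γ(S, V.1) := IsLocallyNoetherian.component_noetherian V
  haveI : IsNoetherianRing Γ(X, U.1) := IsLocallyNoetherian.component_noetherian U
  haveI : Module.Flat Γ(S, V.1) Γ(X, U.1) := hs.1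
  have hU : LocCoh.HasSk k Γ(X, U.1) Γ(X, U.1) :=
    CAlgT1.hasSk_of_flat_of_fibres k (hasSk_section hS V) fun p _ => hasSk_fibre hs k p
  letI : Algebra Γ(X, U.1) (X.presheaf.stalk x) := (X.presheaf.germ U.1 x hx).hom.toAlgebra
  haveI : IsLocalization.AtPrime (X.presheaf.stalk x) (U.2.primeIdealOf ⟨x, hx⟩).asIdeal :=
    U.2.isLocalization_stalk ⟨x, hx⟩
  exact hasSk_localization hU (U.2.primeIdealOf ⟨x, hx⟩).asIdeal _

theorem hasSk_base_of_mem (h : Synt.IsSyntomicMor f) (k : ℕ) [IsLocallyNoetherian X] (x : X)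
    (hX : LocCoh.HasSk k (X.presheaf.stalk x) (X.presheaf.stalk x)) :
    LocCoh.HasSk k (S.presheaf.stalk (f x)) (S.presheaf.stalk (f x)) := by
  haveI := flat f h
  letI := (f.stalkMap x).hom.toAlgebra
  haveI : Module.Flat (S.presheaf.stalk (f x)) (X.presheaf.stalk x) := Flat.stalkMap f x
  haveI : IsLocalHom (algebraMap (S.presheaf.stalk (f x)) (X.presheaf.stalk x)) := f.toLRSHom.prop x
  haveI : Module.FaithfullyFlat (S.presheaf.stalk (f x)) (X.presheaf.stalk x) :=
    Module.FaithfullyFlat.of_flat_of_isLocalHom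
  exact FFDesc.hasSk_descent k _ _ hX

theorem hasSk_iff {ι : Type u} {S : Scheme.{u}} {X : ι → Scheme.{u}} (f : ∀ i, X i ⟶ S)
    (hsurj : ∀ s : S, ∃ i, s ∈ Set.range (f i).base) (hsyn : ∀ i, Synt.IsSyntomicMor (f i)) (k : ℕ) :
    (IsLocallyNoetherian S ∧ ∀ s : S, LocCoh.HasSk k (S.presheaf.stalk s) (S.presheaf.stalk s)) ↔
      ∀ i, IsLocallyNoetherian (X i) ∧ ∀ x : X i, LocCoh.HasSk k ((X i).presheaf.stalk x) ((X i).presheaf.stalk x) := by
  constructor
  · rintro ⟨hN, hS⟩ i
    exact hasSk_of_base (f i) (hsyn i) k hS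
  · intro hX
    haveI := fun i => (hX i).1
    haveI := fun i => flat (f i) (hsyn i)
    haveI := fun i => locallyOfFinitePresentation (f i) (hsyn i)
    haveI : IsLocallyNoetherian (∐ X) :=
      (isLocallyNoetherian_iff_openCover (sigmaOpenCover X)).2 fun i => (hX i).1
    haveI : Surjective (Sigma.desc f) := Surjective.sigmaDesc_of_union_range_eq_univ (Set.eq_univ_of_forall
      fun s => Set.mem_iUnion.2 (hsurj s))
    haveI : LocallyOfFinitePresentation (Sigma.desc f) :=
      IsZariskiLocalAtSource.sigmaDesc (P := @LocallyOfFinitePresentation) fun i => inferInstance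
    refine ⟨FpqcDescent.isLocallyNoetherian_of_flat_surjective_universallyOpen (Sigma.desc f), fun s => ?_⟩
    obtain ⟨i, x, rfl⟩ := hsurj s
    exact hasSk_base_of_mem (f i) (hsyn i) k x ((hX i).2 x)

end Groth.Agent.SyntLocal
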